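import Mathlib

/-!
Counting solutions of `g ^ n = 1` in semidirect products of a finite abelian group by a cyclic group, and in direct
products.  Used for the example of a solvable and a non-solvable group with the same order type (S4376).
-/

set_option autoImplicit false

namespace CfsgOT4376

variable {V : Type} [AddCommGroup V] {m : ℕ}

/-- An additive endomorphism `a` with `a^[m] = id`. -/
structure Act (V : Type) [AddCommGroup V] (m : ℕ) where
  a : V →+ V
  per : ∀ v, a^[m] v = v

theorem Act.iterate_mod (A : Act V m) (j : ℕ) : A.a^[j] = A.a^[j % m] := by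
  have hm : ∀ q : ℕ, A.a^[m * q] = id := by
    intro q
    rw [Function.iterate_mul, show A.a^[m] = id from funext A.per, Function.iterate_id]
  conv_lhs => rw [← Nat.mod_add_div j m, Function.iterate_add, hm, Function.comp_id]

/-- The semidirect product of `V` by `ZMod m` through `A`. -/
structure Semi (A : Act V m) where
  v : V
  c : ZMod m

namespace Semi

variable [NeZero m] {A : Act V m}

@[ext] theorem ext' {x y : Semi A} (h1 : x.v = y.v) (h2 : x.c = y.c) : x = y := by
  cases x; cases y; simp_all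

instance semiMul : Mul (Semi A) := ⟨fun x y => ⟨x.v + A.a^[x.c.val] y.v, x.c + y.c⟩⟩
instance semiOne : One (Semi A) := ⟨⟨0, 0⟩⟩
instance semiInv : Inv (Semi A) := ⟨fun x => ⟨-A.a^[(-x.c).val] x.v, -x.c⟩⟩

@[simp] theorem mul_v (x y : Semi A) : (x * y).v = x.v + A.a^[x.c.val] y.v := rfl
@[simp] theorem mul_c (x y : Semi A) : (x * y).c = x.c + y.c := rfl
@[simp] theorem one_v : (1 : Semi A).v = 0 := rfl
@[simp] theorem one_c : (1 : Semi A).c = 0 := rfl

theorem iterate_val_add (c d : ZMod m) (v : V) :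
    A.a^[(c + d).val] v = A.a^[c.val] (A.a^[d.val] v) := by
  rw [ZMod.val_add, ← A.iterate_mod, Function.iterate_add_apply]

instance semiGroup : Group (Semi A) :=
  Group.ofLeftAxioms
    (fun x y z => by
      refine Semi.ext' ?_ (add_assoc _ _ _)
      simp only [mul_v, mul_c]
      rw [iterate_map_add, add_assoc, iterate_val_add])
    (fun x => by
      refine Semi.ext' ?_ (zero_add _)
      simp only [mul_v, one_v, one_c, ZMod.val_zero, Function.iterate_zero_apply, zero_add])
    (fun x => by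
      refine Semi.ext' ?_ (neg_add_cancel _)
      exact neg_add_cancel _)

/-- The underlying pairs. -/
def toProd : Semi A ≃ V × ZMod m where
  toFun x := (x.v, x.c)
  invFun p := ⟨p.1, p.2⟩
  left_inv _ := rfl
  right_inv _ := rfl

instance semiFinite [Finite V] : Finite (Semi A) := Finite.of_equiv _ toProd.symm

theorem isSolvable : Group.IsSolvable (Semi A) := by
  let f : Semi A →* Multiplicative (ZMod m) :=
    { toFun := fun x => Multiplicative.ofAdd x.c, map_one' := rfl, map_mul' := fun _ _ => rfl }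
  let g : Multiplicative V →* Semi A :=
    { toFun := fun v => ⟨Multiplicative.toAdd v, 0⟩
      map_one' := rfl
      map_mul' := fun u w => by
        refine Semi.ext' ?_ (add_zero (0 : ZMod m)).symm
        simp only [mul_v, ZMod.val_zero, Function.iterate_zero_apply, toAdd_mul] }
  have h1 : Group.IsSolvable (Multiplicative V) := Group.isSolvable_of_comm fun a b => mul_comm a b
  have h2 : Group.IsSolvable (Multiplicative (ZMod m)) := Group.isSolvable_of_comm fun a b => mul_comm a b
  exact Group.isSolvable_of_ker_le_range g f fun x hx =>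
    ⟨Multiplicative.ofAdd x.v, Semi.ext' rfl (show (0 : ZMod m) = x.c from (Multiplicative.ofAdd.injective hx).symm)⟩

theorem pow_c (x : Semi A) (n : ℕ) : (x ^ n).c = n • x.c := by
  induction n with
  | zero => simp
  | succ n ih => rw [pow_succ', mul_c, ih, succ_nsmul']

theorem pow_v (x : Semi A) (n : ℕ) : (x ^ n).v = (fun s => x.v + A.a^[x.c.val] s)^[n] 0 := by
  induction n with
  | zero => simp
  | succ n ih => rw [pow_succ', mul_v, ih, Function.iterate_succ_apply']

end Semi

/-- The number of `v` with `v + a^j v + ⋯ + a^(j(n-1)) v = 0`. -/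
noncomputable def ker (f : V → V) (j n : ℕ) : ℕ :=
  Nat.card {v : V // (fun s => v + f^[j] s)^[n] 0 = 0}

theorem ker_eq_filter {f : V → V} [Fintype V] [DecidableEq V] (j n : ℕ) :
    ker f j n = (Finset.univ.filter fun v : V => (fun s => v + f^[j] s)^[n] 0 = 0).card := by
  rw [ker, Nat.card_eq_fintype_card, Fintype.card_subtype]

theorem ker_prod {W : Type} [AddCommGroup W] [Finite V] [Finite W] (f : V → V) (g : W → W) (j n : ℕ) :
    ker (Prod.map f g) j n = ker f j n * ker g j n := by
  rw [ker, ker, ker, ← Nat.card_prod]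
  refine Nat.card_congr ?_
  refine (Equiv.subtypeEquivRight fun p => ?_).trans (Equiv.subtypeProdEquivProd (p := fun a => _) (q := fun b => _))
  have h : ∀ k : ℕ, (fun s => p + (Prod.map f g)^[j] s)^[k] 0 =
      ((fun s => p.1 + f^[j] s)^[k] 0, (fun s => p.2 + g^[j] s)^[k] 0) := by
    intro k
    induction k with
    | zero => rfl
    | succ k ih =>
      rw [Function.iterate_succ_apply', Function.iterate_succ_apply', Function.iterate_succ_apply', ih,
        Prod.map_iterate]
      rfl
  rw [h, Prod.mk_eq_zero]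

/-- Product of two actions. -/
def Act.prod {W : Type} [AddCommGroup W] (A : Act V m) (B : Act W m) : Act (V × W) m where
  a := A.a.prodMap B.a
  per v := by
    rw [AddMonoidHom.coe_prodMap, Prod.map_iterate]
    exact Prod.ext (A.per _) (B.per _)

theorem Act.ker_prod {W : Type} [AddCommGroup W] [Finite V] [Finite W] (A : Act V m) (B : Act W m) (j n : ℕ) :
    ker (A.prod B).a j n = ker A.a j n * ker B.a j n :=
  CfsgOT4376.ker_prod A.a B.a j n

/-- An action of period `k` is one of period `m` for every multiple `m` of `k`. -/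
def Act.lift {k : ℕ} (A : Act V k) (m : ℕ) (h : m % k = 0) : Act V m where
  a := A.a
  per v := by rw [A.iterate_mod, h]; rfl

/-- A function `T` tabulates the kernel sizes of an action at all divisors of `84`. -/
def Tab {k : ℕ} (A : Act V k) (T : ℕ → ℕ → ℕ) : Prop :=
  ∀ j n, n ∈ Nat.divisors 84 → ker A.a j n = T (j % k) n

theorem tab_of_check [Fintype V] [DecidableEq V] {k : ℕ} [NeZero k] (A : Act V k) (T : ℕ → ℕ → ℕ)
    (h : ∀ j < k, ∀ n ∈ [1, 2, 3, 4, 6, 7, 12, 14, 21, 28, 42, 84],
      (Finset.univ.filter fun v : V => (fun s => v + A.a^[j] s)^[n] 0 = 0).card = T j n) : Tab A T := by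
  intro j n hn
  have hd : n ∈ [1, 2, 3, 4, 6, 7, 12, 14, 21, 28, 42, 84] := by
    have : ∀ i ∈ Nat.divisors 84, i ∈ [1, 2, 3, 4, 6, 7, 12, 14, 21, 28, 42, 84] := by decide +kernel
    exact this n hn
  have : ker A.a j n = ker A.a (j % k) n := by
    unfold ker
    rw [A.iterate_mod j]
  rw [this, ker_eq_filter]
  exact h _ (Nat.mod_lt _ (Nat.pos_of_neZero k)) n hd

theorem Semi.card_pow [NeZero m] [Finite V] (A : Act V m) (n : ℕ) :
    Nat.card {x : Semi A // x ^ n = 1} =
      ∑ c : ZMod m, if n • c = 0 then ker A.a c.val n else 0 := by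
  classical
  let e : {x : Semi A // x ^ n = 1} ≃
      Σ c : {c : ZMod m // n • c = 0}, {v : V // (fun s => v + A.a^[c.1.val] s)^[n] 0 = 0} :=
    { toFun := fun x => ⟨⟨x.1.c, by rw [← Semi.pow_c, x.2]; rfl⟩,
        ⟨x.1.v, by rw [← Semi.pow_v x.1 n, x.2]; rfl⟩⟩
      invFun := fun p => ⟨⟨p.2.1, p.1.1⟩, Semi.ext' (by rw [Semi.pow_v]; exact p.2.2) (by rw [Semi.pow_c]; exact p.1.2)⟩
      left_inv := fun _ => rfl
      right_inv := fun _ => rfl }
  rw [Nat.card_congr e, Nat.card_sigma, ← Finset.sum_filter]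
  exact (Finset.sum_subtype _ (fun c => by simp) (fun c : ZMod m => ker A.a c.val n)).symm

/-- `G` has `f d` solutions of `g ^ d = 1` for each divisor `d` of `84`, and exponent dividing `84`. -/
def OT (G : Type) [Group G] (f : ℕ → ℕ) : Prop :=
  (∀ g : G, g ^ 84 = 1) ∧ ∀ d ∈ Nat.divisors 84, Nat.card {g : G // g ^ d = 1} = f d

theorem OT.of_counts {G : Type} [Group G] [Finite G] {f : ℕ → ℕ} (hc : Nat.card G = f 84)
    (h : ∀ d ∈ Nat.divisors 84, Nat.card {g : G // g ^ d = 1} = f d) : OT G f := by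
  refine ⟨fun g => ?_, h⟩
  have := (Nat.bijective_iff_injective_and_card (Subtype.val : {g : G // g ^ 84 = 1} → G)).mpr
    ⟨Subtype.val_injective, by rw [h 84 (by decide +kernel), hc]⟩
  obtain ⟨y, rfl⟩ := this.2 g
  exact y.2

theorem OT.one : OT PUnit (fun _ => 1) :=
  ⟨fun _ => rfl, fun d _ => Nat.card_eq_one_iff_unique.mpr ⟨⟨fun a b => Subtype.ext (Subsingleton.elim _ _)⟩, ⟨⟨1, one_pow d⟩⟩⟩⟩

theorem OT.prod {G H : Type} [Group G] [Group H] {f g : ℕ → ℕ} (hG : OT G f) (hH : OT H g) :
    OT (G × H) (fun d => f d * g d) := by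
  refine ⟨fun x => Prod.ext (hG.1 _) (hH.1 _), fun d hd => ?_⟩
  show _ = f d * g d
  rw [← hG.2 d hd, ← hH.2 d hd, ← Nat.card_prod]
  exact Nat.card_congr ((Equiv.subtypeEquivRight fun x => by simp [Prod.ext_iff]).trans
    (Equiv.subtypeProdEquivProd (p := fun a => _) (q := fun b => _)))

theorem OT.pow {G : Type} [Group G] {f : ℕ → ℕ} (hG : OT G f) (k : ℕ) :
    OT (Fin k → G) (fun d => f d ^ k) := by
  refine ⟨fun x => funext fun i => hG.1 _, fun d hd => ?_⟩
  show _ = f d ^ k
  rw [← hG.2 d hd]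
  have e : {x : Fin k → G // x ^ d = 1} ≃ (Fin k → {g : G // g ^ d = 1}) :=
    (Equiv.subtypeEquivRight fun x => funext_iff).trans (Equiv.subtypePiEquivPi (p := fun _ g => g ^ d = 1))
  rw [Nat.card_congr e, Nat.card_fun, Nat.card_eq_fintype_card (α := Fin k), Fintype.card_fin]

theorem OT.sameOrderType {G H : Type} [Group G] [Group H] {f g : ℕ → ℕ} (hG : OT G f) (hH : OT H g)
    (h : ∀ d ∈ Nat.divisors 84, f d = g d) (n : ℕ) :
    Nat.card {x : G // x ^ n = 1} = Nat.card {x : H // x ^ n = 1} := by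
  have red : ∀ {K : Type} [Group K], (∀ x : K, x ^ 84 = 1) →
      Nat.card {x : K // x ^ n = 1} = Nat.card {x : K // x ^ Nat.gcd n 84 = 1} := by
    intro K _ hK
    exact Nat.card_congr (Equiv.subtypeEquivRight fun x =>
      ⟨fun hx => pow_gcd_eq_one.mpr ⟨hx, hK x⟩, fun hx => by
        obtain ⟨q, hq⟩ := Nat.gcd_dvd_left n 84
        rw [hq, pow_mul, hx, one_pow]⟩)
  have hd : Nat.gcd n 84 ∈ Nat.divisors 84 := Nat.mem_divisors.mpr ⟨Nat.gcd_dvd_right _ _, by norm_num⟩
  rw [red hG.1, red hH.1, hG.2 _ hd, hH.2 _ hd, h _ hd]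

end CfsgOT4376
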