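import Cfsg.Agent.OT4376.Count

/-! The element orders of `SL(3, 2)` and its non-solvability (S4376). -/

set_option autoImplicit false
set_option maxRecDepth 20000
set_option synthInstance.maxSize 2048

namespace CfsgOT4376

open Matrix
open scoped commutatorElement

/-- `SL(3, 2)`. -/
abbrev L27 : Type := Matrix.SpecialLinearGroup (Fin 3) (ZMod 2)

/-- Rows of a matrix as nested pairs. -/
abbrev T27 : Type :=
  (ZMod 2 × ZMod 2 × ZMod 2) × (ZMod 2 × ZMod 2 × ZMod 2) × (ZMod 2 × ZMod 2 × ZMod 2)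

/-- Matrix of a tuple. -/
def dec (t : T27) : Matrix (Fin 3) (Fin 3) (ZMod 2) :=
  !![t.1.1, t.1.2.1, t.1.2.2; t.2.1.1, t.2.1.2.1, t.2.1.2.2; t.2.2.1, t.2.2.2.1, t.2.2.2.2]

/-- Tuple of a matrix. -/
def enc (M : Matrix (Fin 3) (Fin 3) (ZMod 2)) : T27 :=
  ((M 0 0, M 0 1, M 0 2), (M 1 0, M 1 1, M 1 2), (M 2 0, M 2 1, M 2 2))

theorem dec_enc (M : Matrix (Fin 3) (Fin 3) (ZMod 2)) : dec (enc M) = M := by
  ext i j
  fin_cases i <;> fin_cases j <;> rfl

theorem enc_dec (t : T27) : enc (dec t) = t := rfl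

/-- Product of tuples. -/
def mulT (a b : T27) : T27 :=
  let r := fun (x : ZMod 2 × ZMod 2 × ZMod 2) =>
    ((x.1 * b.1.1 + x.2.1 * b.2.1.1 + x.2.2 * b.2.2.1,
      x.1 * b.1.2.1 + x.2.1 * b.2.1.2.1 + x.2.2 * b.2.2.2.1,
      x.1 * b.1.2.2 + x.2.1 * b.2.1.2.2 + x.2.2 * b.2.2.2.2) : ZMod 2 × ZMod 2 × ZMod 2)
  (r a.1, r a.2.1, r a.2.2)

/-- Determinant of a tuple. -/
def detT (t : T27) : ZMod 2 :=
  t.1.1 * (t.2.1.2.1 * t.2.2.2.2 + t.2.1.2.2 * t.2.2.2.1) +
    t.1.2.1 * (t.2.1.1 * t.2.2.2.2 + t.2.1.2.2 * t.2.2.1) +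
    t.1.2.2 * (t.2.1.1 * t.2.2.2.1 + t.2.1.2.1 * t.2.2.1)

/-- The identity tuple. -/
def oneT : T27 := ((1, 0, 0), (0, 1, 0), (0, 0, 1))

theorem enc_mul (M N : Matrix (Fin 3) (Fin 3) (ZMod 2)) : enc (M * N) = mulT (enc M) (enc N) := by
  simp [enc, mulT, Matrix.mul_apply, Fin.sum_univ_three]

theorem det_dec (t : T27) : (dec t).det = detT t := by
  have h2 : ∀ x : ZMod 2, -x = x := by decide
  simp only [Matrix.det_fin_three, dec, detT, Matrix.of_apply, Matrix.cons_val', Matrix.cons_val_zero,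
    Matrix.cons_val_one, Matrix.cons_val_two, Matrix.empty_val', Matrix.cons_val_fin_one,
    sub_eq_add_neg, h2]
  simp [Matrix.head_cons, Matrix.tail_cons]
  ring

/-- `SL(3, 2)` as a set of tuples. -/
def slEquiv : L27 ≃ {t : T27 // detT t = 1} where
  toFun A := ⟨enc A.1, by rw [← det_dec, dec_enc]; exact A.2⟩
  invFun t := ⟨dec t.1, by rw [det_dec]; exact t.2⟩
  left_inv A := Subtype.ext (dec_enc _)
  right_inv t := Subtype.ext (enc_dec _)

theorem enc_pow (A : L27) (n : ℕ) : enc ((A ^ n : L27) : Matrix (Fin 3) (Fin 3) (ZMod 2)) = (mulT (enc A.1))^[n] oneT := by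
  induction n with
  | zero => rfl
  | succ n ih => rw [pow_succ', Matrix.SpecialLinearGroup.coe_mul, enc_mul, ih, Function.iterate_succ_apply']

theorem card_pow_L27 (n : ℕ) :
    Nat.card {A : L27 // A ^ n = 1} =
      (Finset.univ.filter fun t : T27 => detT t = 1 ∧ (mulT t)^[n] oneT = oneT).card := by
  have h : ∀ A : L27, A ^ n = 1 ↔ (mulT (slEquiv A).1)^[n] oneT = oneT := by
    intro A
    show A ^ n = 1 ↔ (mulT (enc A.1))^[n] oneT = oneT
    rw [← enc_pow]
    constructor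
    · intro h; rw [h]; rfl
    · intro h
      refine Subtype.ext ((dec_enc _).symm.trans ?_)
      rw [h]
      exact dec_enc 1
  have e1 : {A : L27 // A ^ n = 1} ≃ {t : {t : T27 // detT t = 1} // (mulT t.1)^[n] oneT = oneT} :=
    slEquiv.subtypeEquiv h
  have e2 : {t : {t : T27 // detT t = 1} // (mulT t.1)^[n] oneT = oneT} ≃
      {t : T27 // detT t = 1 ∧ (mulT t)^[n] oneT = oneT} :=
    Equiv.subtypeSubtypeEquivSubtypeInter (fun t : T27 => detT t = 1) (fun t => (mulT t)^[n] oneT = oneT)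
  rw [Nat.card_congr (e1.trans e2), Nat.card_eq_fintype_card]
  exact Fintype.card_subtype _

/-- The counts of solutions of `g ^ d = 1` in `SL(3, 2)`. -/
def f27 (d : ℕ) : ℕ :=
  ([1, 22, 57, 64, 78, 49, 120, 70, 105, 112, 126, 168] : List ℕ).getD
    (([1, 2, 3, 4, 6, 7, 12, 14, 21, 28, 42, 84] : List ℕ).idxOf d) 0

theorem ot_L27 : OT L27 f27 := by
  refine OT.of_counts ?_ fun d hd => ?_
  · rw [Nat.card_congr slEquiv, Nat.card_eq_fintype_card, Fintype.card_subtype]
    decide +kernel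
  · have hd' : d ∈ [1, 2, 3, 4, 6, 7, 12, 14, 21, 28, 42, 84] := by
      have : ∀ i ∈ Nat.divisors 84, i ∈ [1, 2, 3, 4, 6, 7, 12, 14, 21, 28, 42, 84] := by decide +kernel
      exact this d hd
    rw [card_pow_L27]
    revert d
    decide +kernel

/-- The six transvections. -/
def transT : Fin 6 → T27
  | 0 => ((1, 1, 0), (0, 1, 0), (0, 0, 1))
  | 1 => ((1, 0, 1), (0, 1, 0), (0, 0, 1))
  | 2 => ((1, 0, 0), (1, 1, 0), (0, 0, 1))
  | 3 => ((1, 0, 0), (0, 1, 1), (0, 0, 1))
  | 4 => ((1, 0, 0), (0, 1, 0), (1, 0, 1))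
  | 5 => ((1, 0, 0), (0, 1, 0), (0, 1, 1))

/-- The six transvections in `SL(3, 2)`. -/
def trans (i : Fin 6) : L27 := slEquiv.symm ⟨transT i, by revert i; decide +kernel⟩

theorem not_solvable_L27 : ¬ Group.IsSolvable L27 := by
  intro h
  obtain ⟨n, hn⟩ := h
  have key : ∀ i : Fin 6, ∃ j k : Fin 6,
      mulT (transT j) (transT k) = mulT (transT i) (mulT (transT k) (transT j)) := by decide +kernel
  have hmem : ∀ (n : ℕ) (i : Fin 6), trans i ∈ derivedSeries L27 n := by
    intro n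
    induction n with
    | zero => exact fun _ => Subgroup.mem_top _
    | succ n ih =>
      intro i
      obtain ⟨j, k, hjk⟩ := key i
      have : ⁅trans j, trans k⁆ = trans i := by
        have e : trans j * trans k = trans i * (trans k * trans j) := by
          refine Subtype.ext ((dec_enc _).symm.trans ?_)
          refine (congrArg dec ?_).trans (dec_enc _)
          simp only [Matrix.SpecialLinearGroup.coe_mul, enc_mul]
          exact hjk
        rw [commutatorElement_def, e]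
        group
      rw [← this, derivedSeries_succ]
      exact Subgroup.commutator_mem_commutator (ih j) (ih k)
  have h0 := hmem n 0
  rw [hn, Subgroup.mem_bot] at h0
  have h1 : transT 0 = oneT :=
    (enc_dec (transT 0)).symm.trans ((congrArg (fun A : L27 => enc A.1) h0).trans rfl)
  revert h1
  decide +kernel

end CfsgOT4376
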